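import Cfsg.Agent.BpSpor.MBigCo
import Cfsg.Agent.H49.CoStab
import Cfsg.Agent.H995.CopLarge
import Cfsg.Agent.S0399
import Cfsg.Agent.Prune
set_option linter.all false
prune_inst 0x7f00000000000000000000000000000000000000000000000000000000000000000000000000000000000000000000000000000000000000000000000000000000000000000000000000000000000000003fffffffffffffffffffffffffffbeffbdffffffff
open scoped Cfsg.Agent.FastGrp

/-!
# The Conway groups have no coprime class sizes (helper604)

* `card_cent_r23` : an element of `Co0` acting as a 23-cycle has a centraliser of order at most 46;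
* `noCop_co1`, `noCop_co2`, `noCop_co3`.
-/

set_option autoImplicit false
open scoped Pointwise

namespace Cfsg.Agent.H604.Cop.Conway

open Cfsg Cfsg.Spor Cfsg.Agent.LeechMat.Core
open Cfsg.Agent.SporadicA.GolayBase Cfsg.Agent.SporadicStructure.TabPerm
open Cfsg.Agent.CpAutBig.FixCount Cfsg.Agent.CpAutBig.Tab
open Cfsg.Agent.MonsterX.FrameStab (IsPerm)
open Cfsg.Agent.MonsterU.Lam2
open Cfsg.Agent.SporadicA.Co0Mono (signCo0 permCo0 permCo0_smul permMap_apply)
open Cfsg.Agent.SporadicA.Co1Simple (allOne)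
open Cfsg.Agent.CoOneType.ClosingFacts
open Cfsg.Agent.CpAutBig
open Subgroup (centralizer zpowers mem_centralizer_singleton_iff)

def F23 : List ℕ := [1, 2, 3, 4, 5, 6, 7, 8, 9, 10, 11, 12, 13, 14, 15, 16, 17, 18, 19, 20, 21, 22, 0, 23]
def G23 : List ℕ := [22, 0, 1, 2, 3, 4, 5, 6, 7, 8, 9, 10, 11, 12, 13, 14, 15, 16, 17, 18, 19, 20, 21, 23]
def CY23 : List ℕ := [0, 0, 0, 0, 0, 0, 0, 0, 0, 0, 0, 0, 0, 0, 0, 0, 0, 0, 0, 0, 0, 0, 0, 1]
def REP23 : List ℕ := [0, 23]
def W23 : List ℕ := [0, 16777215]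
/-- The fixed vectors of norm 32 and 48, up to sign. -/
def A23 : List ℕ := [89, 217]

theorem chk23 : chk F23 G23 = true := by decide +kernel

/-- The permutation of cycle type `1 23`. -/
def pi23 : Equiv.Perm GolayPt := tabPerm F23 G23 chk23

theorem pi23_mem : pi23 ∈ M24 := tabPerm_mem_M24 _ _ _ (by decide +kernel)

theorem idx_pi23 (p : GolayPt) : idx (pi23 p) = F23.getD (idx p) 0 := idx_tab chk23 p

theorem fix_iff (p : GolayPt) : pi23 p = p ↔ idx p = 23 := by
  have h : ∀ i < 24, (F23.getD i 0 = i ↔ i = 23) := by decide +kernel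
  rw [← idx_injective.eq_iff, idx_pi23]
  exact h _ (idx_lt p)

theorem pi23_fix : pi23 (pt 23) = pt 23 := (fix_iff _).2 (idx_pt (by norm_num))

theorem pi23_pow : pi23 ^ 23 = 1 := by
  ext1 p
  apply idx_injective
  have h : ∀ i < 24, (fun j => F23.getD j 0)^[23] i = i := by decide +kernel
  rw [show idx ((pi23 ^ 23 : Equiv.Perm GolayPt) p) = (fun j => F23.getD j 0)^[23] (idx p) from idx_iter chk23 23 p,
    h _ (idx_lt p)]
  rfl

private def tb23 (m a b : ℕ) : Bool := Nat.beq (Nat.mod (Nat.shiftRight m a) 2) (Nat.mod (Nat.shiftRight m b) 2)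

private theorem tb23_of {i a b : ℕ} (ha : a < 12) (hb : b < 12) (h : ((enc i).testBit a == (enc i).testBit b) = true) :
    tb23 i a b = true := by
  have e : ∀ c, c < 12 → (enc i).testBit c = i.testBit c := fun c hc => by
    have h1 := Nat.testBit_mod_two_pow (enc i) 12 c
    have h2 := Nat.testBit_mod_two_pow i 12 c
    rw [decide_eq_true hc, Bool.true_and] at h1 h2
    rw [← h1, ← h2]
    exact congrArg (fun x => Nat.testBit x c) (enc_mod_eq i)
  rw [beq_iff_eq, e a ha, e b hb, Nat.testBit_eq_decide_div_mod_eq, Nat.testBit_eq_decide_div_mod_eq, decide_eq_decide,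
    ← Nat.shiftRight_eq_div_pow, ← Nat.shiftRight_eq_div_pow] at h
  exact Nat.beq_eq.mpr (show i >>> a % 2 = i >>> b % 2 by omega)

private def pre23 (i : ℕ) : Bool := (tb23 i 1 0 && (tb23 i 2 1 && (tb23 i 3 2 && (tb23 i 4 3 && (tb23 i 5 4 && (tb23 i 6 5 && (tb23 i 7 6 && tb23 i 8 7)))))))

private theorem pre23_of {i : ℕ} (h : invm F23 (enc i) = true) : pre23 i = true := by
  have h1 := List.all_eq_true.1 h
  have h2 : ∀ a b, b < 12 → F23.getD b 0 = a → a < 12 → tb23 i a b = true := fun a b hb e ha =>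
    tb23_of ha hb (e ▸ h1 b (List.mem_range.2 (by omega)))
  show (tb23 i 1 0 && (tb23 i 2 1 && (tb23 i 3 2 && (tb23 i 4 3 && (tb23 i 5 4 && (tb23 i 6 5 && (tb23 i 7 6 && tb23 i 8 7))))))) = true
  rw [h2 1 0 (by decide) rfl (by decide),
    h2 2 1 (by decide) rfl (by decide),
    h2 3 2 (by decide) rfl (by decide),
    h2 4 3 (by decide) rfl (by decide),
    h2 5 4 (by decide) rfl (by decide),
    h2 6 5 (by decide) rfl (by decide),
    h2 7 6 (by decide) rfl (by decide),
    h2 8 7 (by decide) rfl (by decide)]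
  rfl

private theorem cnd23 : ∀ p a x : Bool, (a = true → p = true) → (!a || x) = cond p (!a || x) true := by decide

theorem W23_check : allR 12 0 (fun i => !(invm F23 (enc i)) || W23.contains (enc i)) = true := by
  have e : (fun i => !(invm F23 (enc i)) || W23.contains (enc i)) =
      fun i => cond (pre23 i) (!(invm F23 (enc i)) || W23.contains (enc i)) true := funext fun i => cnd23 _ _ _ pre23_of
  rewrite [e]
  decide +kernel

theorem card_words23 : Nat.card {c : Finset GolayPt // c ∈ supports (golayCode : Set (GolayPt → ZMod 2)) ∧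
      ∀ p, pi23 p ∈ c ↔ p ∈ c} ≤ 2 := card_words chk23 W23_check

/-! ### The centraliser in `M24` -/

theorem fix_image {σ : Equiv.Perm GolayPt} (hc : σ * pi23 = pi23 * σ) : σ (pt 23) = pt 23 := by
  have hc' : ∀ p, σ (pi23 p) = pi23 (σ p) := fun p => DFunLike.congr_fun hc p
  have h1 : pi23 (σ (pt 23)) = σ (pt 23) := by rw [← hc', pi23_fix]
  have h2 := (fix_iff _).1 h1
  rw [← pt_idx (σ (pt 23)), h2]

theorem iter_check : ∀ i < 23, (fun j => F23.getD j 0)^[i] 0 = i := by decide +kernel

theorem image_inj {σ σ' : Equiv.Perm GolayPt} (hc : σ * pi23 = pi23 * σ) (hc' : σ' * pi23 = pi23 * σ')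
    (h0 : σ (pt 0) = σ' (pt 0)) : σ = σ' := by
  ext1 p
  by_cases h : idx p = 23
  · rw [← pt_idx p, h, fix_image hc, fix_image hc']
  · have hlt := idx_lt p
    have h1 := iter_check (idx p) (by omega)
    have h4 : (pi23 ^ (idx p) : Equiv.Perm GolayPt) (pt 0) = p := by
      apply idx_injective
      rw [show idx ((pi23 ^ (idx p) : Equiv.Perm GolayPt) (pt 0)) = (fun j => F23.getD j 0)^[idx p] (idx (pt 0)) from
        idx_iter chk23 (idx p) _, idx_pt (by norm_num), h1]
    have k1 : σ ((pi23 ^ (idx p) : Equiv.Perm GolayPt) (pt 0)) = (pi23 ^ (idx p) : Equiv.Perm GolayPt) (σ (pt 0)) :=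
      iter_comm chk23 hc _ _
    have k2 : σ' ((pi23 ^ (idx p) : Equiv.Perm GolayPt) (pt 0)) = (pi23 ^ (idx p) : Equiv.Perm GolayPt) (σ' (pt 0)) :=
      iter_comm chk23 hc' _ _
    rw [← h4, k1, k2, h0]

theorem card_perm23 : Nat.card {σ : Equiv.Perm GolayPt // σ ∈ M24 ∧ σ * pi23 = pi23 * σ} ≤ 23 := by
  classical
  let f : {σ : Equiv.Perm GolayPt // σ ∈ M24 ∧ σ * pi23 = pi23 * σ} → Fin 23 := fun σ =>
    ⟨idx (σ.1 (pt 0)), by
      have h1 := idx_lt (σ.1 (pt 0))
      have h2 : idx (σ.1 (pt 0)) ≠ 23 := by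
        intro h
        have h3 : σ.1 (pt 0) = σ.1 (pt 23) := by
          rw [fix_image σ.2.2, ← pt_idx (σ.1 (pt 0)), h]
        have h4 := congrArg idx (σ.1.injective h3)
        rw [idx_pt (by norm_num), idx_pt (by norm_num)] at h4
        omega
      omega⟩
  have hf : Function.Injective f := by
    intro σ σ' h
    have h1 := congrArg Fin.val h
    exact Subtype.ext (image_inj σ.2.2 σ'.2.2 (idx_injective h1))
  have h2 := Nat.card_le_card_of_injective f hf
  rwa [Nat.card_eq_fintype_card (α := Fin 23), Fintype.card_fin] at h2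

/-! ### The centraliser in `Co0` -/

theorem CY23_check : ∀ i < 24, CY23.getD (F23.getD i 0) 0 = CY23.getD i 0 := by decide +kernel
theorem W23_code : ∀ w ∈ W23, isCode w = true := by decide +kernel
theorem A23_check : chkA CY23 A23 W23 = true := by decide +kernel
theorem REP23_check : ∀ k < 2, REP23.getD k 0 < 24 ∧ CY23.getD (REP23.getD k 0) 0 = k := by decide +kernel
theorem A23_ne : ∀ a ∈ A23, ∃ k < 2, dg a k ≠ 0 := by decide +kernel
theorem A23_pair : A23.Pairwise fun a b => (∃ k < 2, dg a k ≠ dg b k) ∧ (∃ k < 2, dg a k ≠ -dg b k) := by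
  decide +kernel
theorem REP23_iter : ∀ i < 24, ∃ k < 2, REP23.getD k 0 < 24 ∧
    ∃ e < 23, (fun j => F23.getD j 0)^[e] (REP23.getD k 0) = i := by decide +kernel

/-- **The centraliser in `Co0`.** -/
theorem card_le [Finite Co0] {r : Co0} (hr : IsPerm r pi23) : Nat.card {A : Co0 // A * r = r * A} ≤ 46 := by
  obtain ⟨v, hv, hv48, hne⟩ := exists_family chk23 CY23_check W23_code A23_check REP23_check A23_ne A23_pair
  exact Cfsg.Agent.CpAutBig.FixCount.card_le (π := pi23) hr (i₀ := pt 23) pi23_fix (vals chk23 REP23 2)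
    (vals_injective chk23 REP23_iter) v hv hv48 hne card_words23 card_perm23

/-- the element of `Co0` permuting the coordinates by `pi23` -/
noncomputable def r23 : Co0 := permCo0 ⟨pi23, pi23_mem⟩

theorem isPerm_r23 : IsPerm r23 pi23 := by
  intro v p
  unfold r23
  rw [permCo0_smul, permMap_apply]

theorem r23_pow : r23 ^ 23 = 1 := by
  unfold r23
  rw [← map_pow]
  have h : (⟨pi23, pi23_mem⟩ : M24) ^ 23 = 1 := Subtype.ext pi23_pow
  rw [h, map_one]

theorem r23_ne : r23 ≠ 1 := by
  intro h
  have h1 := Cfsg.Agent.SporadicA.Co1Simple.perm_smul_e8 ⟨pi23, pi23_mem⟩ (pt 2)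
  have h2 : r23 • Cfsg.Agent.SporadicStructure.Co0Base.e8 (pt 2) = Cfsg.Agent.SporadicStructure.Co0Base.e8 (pi23 (pt 2)) := h1
  rw [h, one_smul] at h2
  have h3 := Cfsg.Agent.SporadicA.Co1Simple.e8_inj h2
  have h4 := (fix_iff (pt 2)).1 h3.symm
  rw [idx_pt (by norm_num)] at h4
  omega

theorem orderOf_r23 : orderOf r23 = 23 := by
  have : Fact (Nat.Prime 23) := ⟨by norm_num⟩
  exact orderOf_eq_prime r23_pow r23_ne

theorem card_cent_r23 : Nat.card ↥(centralizer ({r23} : Set Co0)) ≤ 46 := by
  have hfin := CoZero.finite_co0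
  refine le_trans (le_of_eq ?_) (card_le isPerm_r23)
  apply Nat.card_congr
  exact Equiv.subtypeEquivRight fun a => mem_centralizer_singleton_iff

/-- elements of order 23 of `Co0` -/
theorem card_cent_co0 {r : Co0} (hr : orderOf r = 23) : Nat.card ↥(centralizer ({r} : Set Co0)) ≤ 46 := by
  have hfin := CoZero.finite_co0
  obtain ⟨g, -, hg⟩ := Small.conj_of_sylow (p := 23) (by norm_num) (⊤ : Subgroup Co0) (by
    rw [Subgroup.card_top, S0397.result]; norm_num) hr orderOf_r23 (Subgroup.mem_top _) (Subgroup.mem_top _)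
  rw [CoZero.card_centralizer_of_conj (by norm_num) hr orderOf_r23 hg]
  exact card_cent_r23

theorem not_comm_of_card {G : Type*} [Group G] [IsSimpleGroup G] (h : ¬ (Nat.card G).Prime) : ¬ IsMulCommutative G := by
  intro hc
  let _ : CommGroup G := { ‹Group G› with mul_comm := hc.is_comm.comm }
  exact h IsSimpleGroup.prime_card

/-- a subgroup of order at most 23 containing an element of order 23 -/
theorem card_eq {G : Type*} [Group G] [Finite G] {z : G} (hz : orderOf z = 23)
    (h : Nat.card (centralizer ({z} : Set G)) ≤ 23) : Nat.card (centralizer ({z} : Set G)) = orderOf z := by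
  have h1 : zpowers z ≤ centralizer ({z} : Set G) := by
    rw [Subgroup.zpowers_le, mem_centralizer_singleton_iff]
  have h2 := Subgroup.card_dvd_of_le h1
  rw [Nat.card_zpowers, hz] at h2
  rw [hz]
  have h3 := Nat.le_of_dvd Nat.card_pos h2
  omega

/-- a subgroup of `Co0` without `-1` -/
theorem card_cent_of_inc {K : Type*} [Group K] [Finite K] (i : K →* Co0) (hi : Function.Injective i)
    (hZ : ∀ g : K, i g ≠ signCo0 allOne) (z : K) (hz : orderOf z = 23) :
    Nat.card (centralizer ({z} : Set K)) = 23 := by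
  have hfin := CoZero.finite_co0
  have hz' : orderOf (i z) = 23 := by rw [orderOf_injective i hi, hz]
  refine (card_eq hz ?_).trans hz
  have h1 := card_cent_co0 hz'
  -- `C(z) × {±1}` injects into the centralizer
  classical
  let f : ↥(centralizer ({z} : Set K)) × Bool → ↥(centralizer ({i z} : Set Co0)) := fun a =>
    ⟨i a.1 * (if a.2 then signCo0 allOne else 1), by
      have h2 := mem_centralizer_singleton_iff.1 a.1.2
      rw [mem_centralizer_singleton_iff]
      have h3 : i a.1 * i z = i z * i a.1 := by rw [← map_mul, h2, map_mul]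
      by_cases hb : a.2
      · rw [if_pos hb, mul_assoc, LThreeBX.NoSeven.n_comm, ← mul_assoc, h3, mul_assoc]
      · rw [if_neg hb, mul_one, h3]⟩
  have hf : Function.Injective f := by
    rintro ⟨a, s⟩ ⟨b, t⟩ h
    have h2 : i a * (if s then signCo0 allOne else 1) = i b * (if t then signCo0 allOne else 1) :=
      congrArg Subtype.val h
    have key : ∀ a b : K, i a * signCo0 allOne = i b → False := by
      intro a b hab
      apply hZ (a⁻¹ * b)
      rw [map_mul, map_inv, ← hab, inv_mul_cancel_left]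
    cases s <;> cases t
    · replace h2 : i a * 1 = i b * 1 := h2
      rw [Prod.mk.injEq]
      exact ⟨Subtype.ext (hi (mul_right_cancel h2)), rfl⟩
    · replace h2 : i a * 1 = i b * signCo0 allOne := h2
      rw [mul_one] at h2
      exact (key _ _ h2.symm).elim
    · replace h2 : i a * signCo0 allOne = i b * 1 := h2
      rw [mul_one] at h2
      exact (key _ _ h2).elim
    · replace h2 : i a * signCo0 allOne = i b * signCo0 allOne := h2
      rw [Prod.mk.injEq]
      exact ⟨Subtype.ext (hi (mul_right_cancel h2)), rfl⟩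
  have h2 := Nat.card_le_card_of_injective f hf
  rw [Nat.card_prod, Nat.card_eq_fintype_card (α := Bool), Fintype.card_bool] at h2
  omega

theorem noCop_of_inc {K : Type*} [Group K] [Finite K] [IsSimpleGroup K] (hna : ¬ IsMulCommutative K)
    (i : K →* Co0) (hi : Function.Injective i) (hc : 23 ∣ Nat.card K) (hZ : ∀ g : K, i g ≠ signCo0 allOne) :
    H530.Cop.NoCop K := by
  have h23 : Fact (Nat.Prime 23) := ⟨by norm_num⟩
  obtain ⟨z, hz⟩ := exists_prime_orderOf_dvd_card' 23 hc
  exact H530.Cop.noCop_of_self hna (z := z) (by rw [hz]; norm_num) (by rw [card_cent_of_inc i hi hZ z hz, hz])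

/-- the inclusion of `Co2` in `Co0` -/
def inc2 : Spor.Co2 →* Co0 where
  toFun := fun g => ⟨g.1, g.2.1⟩
  map_one' := rfl
  map_mul' := fun _ _ => rfl

theorem inc2_injective : Function.Injective inc2 := fun _ _ hab =>
  Subtype.ext (congrArg (fun z : Co0 => (z : Equiv.Perm leechLattice)) hab)

theorem inc2_ne (g : Spor.Co2) : inc2 g ≠ signCo0 allOne := by
  intro hg
  have h1 : inc2 g • Spor.leechU = Spor.leechU := g.2.2
  rw [hg] at h1
  have h2 := congrArg (fun u : leechLattice => (u : GolayPt → ℤ) none) h1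
  rw [show ((signCo0 allOne : Co0) • Spor.leechU) = -Spor.leechU from Cfsg.Agent.SporadicA.Co1Simple.allOne_smul _] at h2
  have h3 : -((4 : ℤ)) = 4 := h2
  omega

/-- the inclusion of `Co3` in `Co0` -/
def inc3 : Spor.Co3 →* Co0 where
  toFun := fun g => ⟨g.1, g.2.1⟩
  map_one' := rfl
  map_mul' := fun _ _ => rfl

theorem inc3_injective : Function.Injective inc3 := fun _ _ hab =>
  Subtype.ext (congrArg (fun z : Co0 => (z : Equiv.Perm leechLattice)) hab)

theorem inc3_ne (g : Spor.Co3) : inc3 g ≠ signCo0 allOne := by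
  intro hg
  have h1 : inc3 g • Spor.leechV = Spor.leechV := g.2.2
  rw [hg] at h1
  have h2 := congrArg (fun u : leechLattice => (u : GolayPt → ℤ) none) h1
  rw [show ((signCo0 allOne : Co0) • Spor.leechV) = -Spor.leechV from Cfsg.Agent.SporadicA.Co1Simple.allOne_smul _] at h2
  have h3 : -((-5 : ℤ)) = -5 := h2
  omega

/-- the elements of order 23 of `Co2` are self-centralizing -/
theorem self_co2 (z : Spor.Co2) (hz : orderOf z = 23) : Nat.card (centralizer ({z} : Set Spor.Co2)) = 23 := by
  have := H49.CoStab.finite_co2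
  exact card_cent_of_inc inc2 inc2_injective inc2_ne z hz

/-- the elements of order 23 of `Co3` are self-centralizing -/
theorem self_co3 (z : Spor.Co3) (hz : orderOf z = 23) : Nat.card (centralizer ({z} : Set Spor.Co3)) = 23 := by
  have := H49.CoStab.finite_co3
  exact card_cent_of_inc inc3 inc3_injective inc3_ne z hz

/-- **Co2** -/
theorem noCop_co2 {G : Type*} [Group G] [Finite G] (h : Spor.IsoCo2 G) : H530.Cop.NoCop G := by
  obtain ⟨e⟩ := h
  have hf := H49.CoStab.finite_co2
  have hs := H49.CoStab.simple_co2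
  exact H530.Cop.NoCop.congr e.symm (noCop_of_inc (not_comm_of_card (by rw [H49.CoStab.card_co2]; norm_num)) inc2
    inc2_injective (by rw [H49.CoStab.card_co2]; norm_num) inc2_ne)

/-- **Co3** -/
theorem noCop_co3 {G : Type*} [Group G] [Finite G] (h : Spor.IsoCo3 G) : H530.Cop.NoCop G := by
  obtain ⟨e⟩ := h
  have hf := H49.CoStab.finite_co3
  have hs := H49.CoStab.simple_co3
  exact H530.Cop.NoCop.congr e.symm (noCop_of_inc (not_comm_of_card (by rw [H49.CoStab.card_co3]; norm_num)) inc3
    inc3_injective (by rw [H49.CoStab.card_co3]; norm_num) inc3_ne)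

/-! ### `Co1` -/

/-- the element of order 23 of `Co1` -/
noncomputable def s23 : Spor.Co1 := mk r23

theorem orderOf_s23 : orderOf s23 = 23 := by
  have : Fact (Nat.Prime 23) := ⟨by norm_num⟩
  refine orderOf_eq_prime ?_ ?_
  · have h1 : s23 ^ 23 = mk (r23 ^ 23) := rfl
    rw [h1, r23_pow]
    rfl
  · intro h
    rcases (mk_eq_one _).1 h with h1 | h1
    · exact r23_ne h1
    · have h2 := r23_pow
      rw [h1, LThreeBX.NoSeven.pow_n (by decide)] at h2
      exact LThreeBX.NoSeven.n_ne h2

theorem card_cent_s23 : Nat.card ↥(centralizer ({s23} : Set Spor.Co1)) ≤ 23 := by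
  have hfin := CoZero.finite_co0
  let q : ↥(centralizer ({r23} : Set Co0)) →* Spor.Co1 :=
    (QuotientGroup.mk' (Subgroup.center Co0)).comp (centralizer ({r23} : Set Co0)).subtype
  have hq : ∀ a, q a = mk (a : Co0) := fun a => rfl
  have h1 : q.range = centralizer ({s23} : Set Spor.Co1) := by
    apply le_antisymm
    · rintro _ ⟨a, rfl⟩
      rw [mem_centralizer_singleton_iff]
      have h2 := mem_centralizer_singleton_iff.1 a.2
      show mk ((a : Co0) * r23) = mk (r23 * a)
      rw [h2]
    · intro s hs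
      obtain ⟨a, rfl⟩ := exists_mk s
      have h2 : mk r23 * mk a = mk a * mk r23 := (mem_centralizer_singleton_iff.1 hs).symm
      have h3 := LThreeBX.NoSeven.comm_of_mk (n := 23) (by decide) r23_pow h2
      exact ⟨⟨a, mem_centralizer_singleton_iff.2 h3.symm⟩, rfl⟩
  have h2 : 2 ≤ Nat.card q.ker := by
    have hm : (signCo0 allOne : Co0) ∈ centralizer ({r23} : Set Co0) :=
      mem_centralizer_singleton_iff.2 (LThreeBX.NoSeven.n_comm r23)
    have hk : (⟨signCo0 allOne, hm⟩ : ↥(centralizer ({r23} : Set Co0))) ∈ q.ker := by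
      rw [MonoidHom.mem_ker, hq, mk_eq_one]
      exact Or.inr rfl
    have h3 : Nontrivial ↥q.ker := by
      refine ⟨⟨⟨_, hk⟩, 1, ?_⟩⟩
      intro h
      exact LThreeBX.NoSeven.n_ne (congrArg (fun x : ↥q.ker => ((x : ↥(centralizer ({r23} : Set Co0))) : Co0)) h)
    exact Finite.one_lt_card
  have h3 : Nat.card ↥(centralizer ({r23} : Set Co0)) = Nat.card q.ker * Nat.card q.range := by
    rw [← Subgroup.card_mul_index q.ker, Subgroup.index_ker]
  rw [h1] at h3
  have h4 := card_cent_r23
  rw [h3] at h4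
  nlinarith [h4, h2]

/-- **Co1** -/
theorem noCop_co1 {G : Type*} [Group G] [Finite G] (h : Spor.IsoCo1 G) : H530.Cop.NoCop G := by
  obtain ⟨e⟩ := h
  have hf := BpSpor.MBigCo.finite_co1
  have hs : IsSimpleGroup Spor.Co1 := Cfsg.Agent.S0399.result.1
  refine H530.Cop.NoCop.congr e.symm (H530.Cop.noCop_of_self (not_comm_of_card ?_) (z := s23)
    (by rw [orderOf_s23]; norm_num) (card_eq orderOf_s23 card_cent_s23))
  rw [BpSpor.MBigCo.card_co1]; norm_num

end Cfsg.Agent.H604.Cop.Conway
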